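import Mathlib
import Cfsg.Agent.TcData.Ly.Cov.L3.Tab

set_option autoImplicit false
set_option Elab.async false
set_option maxRecDepth 100000
set_option linter.all false
set_option maxHeartbeats 0

namespace Cfsg.Agent.TcData.Ly.Cov.L3

open Cfsg.Agent.Lib.TcFacts

theorem b30 : Block F Cfsg.Agent.TcData.Ly.K1.al 7680 7936 183 :=
  block_of_check (k := 8) rfl (by decide +kernel)

theorem b31 : Block F Cfsg.Agent.TcData.Ly.K1.al 7936 8192 199 :=
  block_of_check (k := 8) rfl (by decide +kernel)

theorem b32 : Block F Cfsg.Agent.TcData.Ly.K1.al 8192 8448 199 :=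
  block_of_check (k := 8) rfl (by decide +kernel)

theorem b33 : Block F Cfsg.Agent.TcData.Ly.K1.al 8448 8704 183 :=
  block_of_check (k := 8) rfl (by decide +kernel)

theorem b34 : Block F Cfsg.Agent.TcData.Ly.K1.al 8704 8960 172 :=
  block_of_check (k := 8) rfl (by decide +kernel)

theorem b35 : Block F Cfsg.Agent.TcData.Ly.K1.al 8960 9216 190 :=
  block_of_check (k := 8) rfl (by decide +kernel)

theorem b36 : Block F Cfsg.Agent.TcData.Ly.K1.al 9216 9472 180 :=
  block_of_check (k := 8) rfl (by decide +kernel)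

theorem b37 : Block F Cfsg.Agent.TcData.Ly.K1.al 9472 9728 147 :=
  block_of_check (k := 8) rfl (by decide +kernel)

theorem b38 : Block F Cfsg.Agent.TcData.Ly.K1.al 9728 9984 184 :=
  block_of_check (k := 8) rfl (by decide +kernel)

theorem b39 : Block F Cfsg.Agent.TcData.Ly.K1.al 9984 10240 143 :=
  block_of_check (k := 8) rfl (by decide +kernel)

theorem b40 : Block F Cfsg.Agent.TcData.Ly.K1.al 10240 10496 151 :=
  block_of_check (k := 8) rfl (by decide +kernel)

theorem b41 : Block F Cfsg.Agent.TcData.Ly.K1.al 10496 10752 162 :=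
  block_of_check (k := 8) rfl (by decide +kernel)

theorem b42 : Block F Cfsg.Agent.TcData.Ly.K1.al 10752 11008 139 :=
  block_of_check (k := 8) rfl (by decide +kernel)

theorem b43 : Block F Cfsg.Agent.TcData.Ly.K1.al 11008 11264 140 :=
  block_of_check (k := 8) rfl (by decide +kernel)

theorem b44 : Block F Cfsg.Agent.TcData.Ly.K1.al 11264 11520 162 :=
  block_of_check (k := 8) rfl (by decide +kernel)

theorem b45 : Block F Cfsg.Agent.TcData.Ly.K1.al 11520 11776 152 :=
  block_of_check (k := 8) rfl (by decide +kernel)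

theorem b46 : Block F Cfsg.Agent.TcData.Ly.K1.al 11776 12032 126 :=
  block_of_check (k := 8) rfl (by decide +kernel)

theorem b47 : Block F Cfsg.Agent.TcData.Ly.K1.al 12032 12288 149 :=
  block_of_check (k := 8) rfl (by decide +kernel)

theorem b48 : Block F Cfsg.Agent.TcData.Ly.K1.al 12288 12544 111 :=
  block_of_check (k := 8) rfl (by decide +kernel)

theorem b49 : Block F Cfsg.Agent.TcData.Ly.K1.al 12544 12800 111 :=
  block_of_check (k := 8) rfl (by decide +kernel)

theorem b50 : Block F Cfsg.Agent.TcData.Ly.K1.al 12800 13056 146 :=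
  block_of_check (k := 8) rfl (by decide +kernel)

theorem b51 : Block F Cfsg.Agent.TcData.Ly.K1.al 13056 13312 185 :=
  block_of_check (k := 8) rfl (by decide +kernel)

theorem b52 : Block F Cfsg.Agent.TcData.Ly.K1.al 13312 13568 143 :=
  block_of_check (k := 8) rfl (by decide +kernel)

theorem b53 : Block F Cfsg.Agent.TcData.Ly.K1.al 13568 13824 184 :=
  block_of_check (k := 8) rfl (by decide +kernel)

theorem b54 : Block F Cfsg.Agent.TcData.Ly.K1.al 13824 14080 195 :=
  block_of_check (k := 8) rfl (by decide +kernel)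

theorem b55 : Block F Cfsg.Agent.TcData.Ly.K1.al 14080 14336 176 :=
  block_of_check (k := 8) rfl (by decide +kernel)

theorem b56 : Block F Cfsg.Agent.TcData.Ly.K1.al 14336 14592 172 :=
  block_of_check (k := 8) rfl (by decide +kernel)

theorem b57 : Block F Cfsg.Agent.TcData.Ly.K1.al 14592 14848 146 :=
  block_of_check (k := 8) rfl (by decide +kernel)

theorem b58 : Block F Cfsg.Agent.TcData.Ly.K1.al 14848 15104 199 :=
  block_of_check (k := 8) rfl (by decide +kernel)

theorem b59 : Block F Cfsg.Agent.TcData.Ly.K1.al 15104 15360 157 :=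
  block_of_check (k := 8) rfl (by decide +kernel)

end Cfsg.Agent.TcData.Ly.Cov.L3
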