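import Mathlib
import Cfsg.Agent.TcData.Ly.Cov.L3.Tab

set_option autoImplicit false
set_option Elab.async false
set_option maxRecDepth 100000
set_option linter.all false
set_option maxHeartbeats 0

namespace Cfsg.Agent.TcData.Ly.Cov.L3

open Cfsg.Agent.Lib.TcFacts

theorem b90 : Block F Cfsg.Agent.TcData.Ly.K1.al 23040 23296 157 :=
  block_of_check (k := 8) rfl (by decide +kernel)

theorem b91 : Block F Cfsg.Agent.TcData.Ly.K1.al 23296 23552 164 :=
  block_of_check (k := 8) rfl (by decide +kernel)

theorem b92 : Block F Cfsg.Agent.TcData.Ly.K1.al 23552 23808 159 :=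
  block_of_check (k := 8) rfl (by decide +kernel)

theorem b93 : Block F Cfsg.Agent.TcData.Ly.K1.al 23808 24064 147 :=
  block_of_check (k := 8) rfl (by decide +kernel)

theorem b94 : Block F Cfsg.Agent.TcData.Ly.K1.al 24064 24320 159 :=
  block_of_check (k := 8) rfl (by decide +kernel)

theorem b95 : Block F Cfsg.Agent.TcData.Ly.K1.al 24320 24576 143 :=
  block_of_check (k := 8) rfl (by decide +kernel)

theorem b96 : Block F Cfsg.Agent.TcData.Ly.K1.al 24576 24832 201 :=
  block_of_check (k := 8) rfl (by decide +kernel)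

theorem b97 : Block F Cfsg.Agent.TcData.Ly.K1.al 24832 25088 139 :=
  block_of_check (k := 8) rfl (by decide +kernel)

theorem b98 : Block F Cfsg.Agent.TcData.Ly.K1.al 25088 25344 102 :=
  block_of_check (k := 8) rfl (by decide +kernel)

theorem b99 : Block F Cfsg.Agent.TcData.Ly.K1.al 25344 25600 136 :=
  block_of_check (k := 8) rfl (by decide +kernel)

theorem b100 : Block F Cfsg.Agent.TcData.Ly.K1.al 25600 25856 150 :=
  block_of_check (k := 8) rfl (by decide +kernel)

theorem b101 : Block F Cfsg.Agent.TcData.Ly.K1.al 25856 26112 131 :=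
  block_of_check (k := 8) rfl (by decide +kernel)

theorem b102 : Block F Cfsg.Agent.TcData.Ly.K1.al 26112 26368 148 :=
  block_of_check (k := 8) rfl (by decide +kernel)

theorem b103 : Block F Cfsg.Agent.TcData.Ly.K1.al 26368 26624 121 :=
  block_of_check (k := 8) rfl (by decide +kernel)

theorem b104 : Block F Cfsg.Agent.TcData.Ly.K1.al 26624 26880 134 :=
  block_of_check (k := 8) rfl (by decide +kernel)

theorem b105 : Block F Cfsg.Agent.TcData.Ly.K1.al 26880 27136 125 :=
  block_of_check (k := 8) rfl (by decide +kernel)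

theorem b106 : Block F Cfsg.Agent.TcData.Ly.K1.al 27136 27392 198 :=
  block_of_check (k := 8) rfl (by decide +kernel)

theorem b107 : Block F Cfsg.Agent.TcData.Ly.K1.al 27392 27648 203 :=
  block_of_check (k := 8) rfl (by decide +kernel)

theorem b108 : Block F Cfsg.Agent.TcData.Ly.K1.al 27648 27904 225 :=
  block_of_check (k := 8) rfl (by decide +kernel)

theorem b109 : Block F Cfsg.Agent.TcData.Ly.K1.al 27904 28160 229 :=
  block_of_check (k := 8) rfl (by decide +kernel)

theorem b110 : Block F Cfsg.Agent.TcData.Ly.K1.al 28160 28416 186 :=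
  block_of_check (k := 8) rfl (by decide +kernel)

theorem b111 : Block F Cfsg.Agent.TcData.Ly.K1.al 28416 28672 200 :=
  block_of_check (k := 8) rfl (by decide +kernel)

theorem b112 : Block F Cfsg.Agent.TcData.Ly.K1.al 28672 28928 172 :=
  block_of_check (k := 8) rfl (by decide +kernel)

theorem b113 : Block F Cfsg.Agent.TcData.Ly.K1.al 28928 29184 126 :=
  block_of_check (k := 8) rfl (by decide +kernel)

theorem b114 : Block F Cfsg.Agent.TcData.Ly.K1.al 29184 29440 125 :=
  block_of_check (k := 8) rfl (by decide +kernel)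

theorem b115 : Block F Cfsg.Agent.TcData.Ly.K1.al 29440 29696 133 :=
  block_of_check (k := 8) rfl (by decide +kernel)

theorem b116 : Block F Cfsg.Agent.TcData.Ly.K1.al 29696 29952 131 :=
  block_of_check (k := 8) rfl (by decide +kernel)

end Cfsg.Agent.TcData.Ly.Cov.L3
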