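import Mathlib
import Cfsg.Agent.TcData.Ly.Cov.L3.C0
import Cfsg.Agent.TcData.Ly.Cov.L3.C1
import Cfsg.Agent.TcData.Ly.Cov.L3.C2
import Cfsg.Agent.TcData.Ly.Cov.L3.C3

set_option autoImplicit false
set_option Elab.async false
set_option maxRecDepth 100000
set_option linter.all false
set_option maxHeartbeats 0

namespace Cfsg.Agent.TcData.Ly.Cov.L3

open Cfsg.Agent.Lib.TcFacts

theorem c0 : Block F Cfsg.Agent.TcData.Ly.K1.al 0 256 231 := b0

theorem c1 : Block F Cfsg.Agent.TcData.Ly.K1.al 0 512 461 :=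
  block_comb c0 b1 (Nat.zero_le _) (Nat.le_of_ble_eq_true rfl) rfl

theorem c2 : Block F Cfsg.Agent.TcData.Ly.K1.al 0 768 695 :=
  block_comb c1 b2 (Nat.zero_le _) (Nat.le_of_ble_eq_true rfl) rfl

theorem c3 : Block F Cfsg.Agent.TcData.Ly.K1.al 0 1024 914 :=
  block_comb c2 b3 (Nat.zero_le _) (Nat.le_of_ble_eq_true rfl) rfl

theorem c4 : Block F Cfsg.Agent.TcData.Ly.K1.al 0 1280 1120 :=
  block_comb c3 b4 (Nat.zero_le _) (Nat.le_of_ble_eq_true rfl) rfl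

theorem c5 : Block F Cfsg.Agent.TcData.Ly.K1.al 0 1536 1331 :=
  block_comb c4 b5 (Nat.zero_le _) (Nat.le_of_ble_eq_true rfl) rfl

theorem c6 : Block F Cfsg.Agent.TcData.Ly.K1.al 0 1792 1548 :=
  block_comb c5 b6 (Nat.zero_le _) (Nat.le_of_ble_eq_true rfl) rfl

theorem c7 : Block F Cfsg.Agent.TcData.Ly.K1.al 0 2048 1749 :=
  block_comb c6 b7 (Nat.zero_le _) (Nat.le_of_ble_eq_true rfl) rfl

theorem c8 : Block F Cfsg.Agent.TcData.Ly.K1.al 0 2304 1950 :=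
  block_comb c7 b8 (Nat.zero_le _) (Nat.le_of_ble_eq_true rfl) rfl

theorem c9 : Block F Cfsg.Agent.TcData.Ly.K1.al 0 2560 2123 :=
  block_comb c8 b9 (Nat.zero_le _) (Nat.le_of_ble_eq_true rfl) rfl

theorem c10 : Block F Cfsg.Agent.TcData.Ly.K1.al 0 2816 2305 :=
  block_comb c9 b10 (Nat.zero_le _) (Nat.le_of_ble_eq_true rfl) rfl

theorem c11 : Block F Cfsg.Agent.TcData.Ly.K1.al 0 3072 2476 :=
  block_comb c10 b11 (Nat.zero_le _) (Nat.le_of_ble_eq_true rfl) rfl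

theorem c12 : Block F Cfsg.Agent.TcData.Ly.K1.al 0 3328 2651 :=
  block_comb c11 b12 (Nat.zero_le _) (Nat.le_of_ble_eq_true rfl) rfl

theorem c13 : Block F Cfsg.Agent.TcData.Ly.K1.al 0 3584 2880 :=
  block_comb c12 b13 (Nat.zero_le _) (Nat.le_of_ble_eq_true rfl) rfl

theorem c14 : Block F Cfsg.Agent.TcData.Ly.K1.al 0 3840 3074 :=
  block_comb c13 b14 (Nat.zero_le _) (Nat.le_of_ble_eq_true rfl) rfl

theorem c15 : Block F Cfsg.Agent.TcData.Ly.K1.al 0 4096 3279 :=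
  block_comb c14 b15 (Nat.zero_le _) (Nat.le_of_ble_eq_true rfl) rfl

theorem c16 : Block F Cfsg.Agent.TcData.Ly.K1.al 0 4352 3475 :=
  block_comb c15 b16 (Nat.zero_le _) (Nat.le_of_ble_eq_true rfl) rfl

theorem c17 : Block F Cfsg.Agent.TcData.Ly.K1.al 0 4608 3647 :=
  block_comb c16 b17 (Nat.zero_le _) (Nat.le_of_ble_eq_true rfl) rfl

theorem c18 : Block F Cfsg.Agent.TcData.Ly.K1.al 0 4864 3810 :=
  block_comb c17 b18 (Nat.zero_le _) (Nat.le_of_ble_eq_true rfl) rfl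

theorem c19 : Block F Cfsg.Agent.TcData.Ly.K1.al 0 5120 3987 :=
  block_comb c18 b19 (Nat.zero_le _) (Nat.le_of_ble_eq_true rfl) rfl

theorem c20 : Block F Cfsg.Agent.TcData.Ly.K1.al 0 5376 4173 :=
  block_comb c19 b20 (Nat.zero_le _) (Nat.le_of_ble_eq_true rfl) rfl

theorem c21 : Block F Cfsg.Agent.TcData.Ly.K1.al 0 5632 4341 :=
  block_comb c20 b21 (Nat.zero_le _) (Nat.le_of_ble_eq_true rfl) rfl

theorem c22 : Block F Cfsg.Agent.TcData.Ly.K1.al 0 5888 4524 :=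
  block_comb c21 b22 (Nat.zero_le _) (Nat.le_of_ble_eq_true rfl) rfl

theorem c23 : Block F Cfsg.Agent.TcData.Ly.K1.al 0 6144 4699 :=
  block_comb c22 b23 (Nat.zero_le _) (Nat.le_of_ble_eq_true rfl) rfl

theorem c24 : Block F Cfsg.Agent.TcData.Ly.K1.al 0 6400 4918 :=
  block_comb c23 b24 (Nat.zero_le _) (Nat.le_of_ble_eq_true rfl) rfl

theorem c25 : Block F Cfsg.Agent.TcData.Ly.K1.al 0 6656 5141 :=
  block_comb c24 b25 (Nat.zero_le _) (Nat.le_of_ble_eq_true rfl) rfl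

theorem c26 : Block F Cfsg.Agent.TcData.Ly.K1.al 0 6912 5348 :=
  block_comb c25 b26 (Nat.zero_le _) (Nat.le_of_ble_eq_true rfl) rfl

theorem c27 : Block F Cfsg.Agent.TcData.Ly.K1.al 0 7168 5527 :=
  block_comb c26 b27 (Nat.zero_le _) (Nat.le_of_ble_eq_true rfl) rfl

theorem c28 : Block F Cfsg.Agent.TcData.Ly.K1.al 0 7424 5729 :=
  block_comb c27 b28 (Nat.zero_le _) (Nat.le_of_ble_eq_true rfl) rfl

theorem c29 : Block F Cfsg.Agent.TcData.Ly.K1.al 0 7680 5919 :=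
  block_comb c28 b29 (Nat.zero_le _) (Nat.le_of_ble_eq_true rfl) rfl

theorem c30 : Block F Cfsg.Agent.TcData.Ly.K1.al 0 7936 6102 :=
  block_comb c29 b30 (Nat.zero_le _) (Nat.le_of_ble_eq_true rfl) rfl

theorem c31 : Block F Cfsg.Agent.TcData.Ly.K1.al 0 8192 6301 :=
  block_comb c30 b31 (Nat.zero_le _) (Nat.le_of_ble_eq_true rfl) rfl

theorem c32 : Block F Cfsg.Agent.TcData.Ly.K1.al 0 8448 6500 :=
  block_comb c31 b32 (Nat.zero_le _) (Nat.le_of_ble_eq_true rfl) rfl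

theorem c33 : Block F Cfsg.Agent.TcData.Ly.K1.al 0 8704 6683 :=
  block_comb c32 b33 (Nat.zero_le _) (Nat.le_of_ble_eq_true rfl) rfl

theorem c34 : Block F Cfsg.Agent.TcData.Ly.K1.al 0 8960 6855 :=
  block_comb c33 b34 (Nat.zero_le _) (Nat.le_of_ble_eq_true rfl) rfl

theorem c35 : Block F Cfsg.Agent.TcData.Ly.K1.al 0 9216 7045 :=
  block_comb c34 b35 (Nat.zero_le _) (Nat.le_of_ble_eq_true rfl) rfl

theorem c36 : Block F Cfsg.Agent.TcData.Ly.K1.al 0 9472 7225 :=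
  block_comb c35 b36 (Nat.zero_le _) (Nat.le_of_ble_eq_true rfl) rfl

theorem c37 : Block F Cfsg.Agent.TcData.Ly.K1.al 0 9728 7372 :=
  block_comb c36 b37 (Nat.zero_le _) (Nat.le_of_ble_eq_true rfl) rfl

theorem c38 : Block F Cfsg.Agent.TcData.Ly.K1.al 0 9984 7556 :=
  block_comb c37 b38 (Nat.zero_le _) (Nat.le_of_ble_eq_true rfl) rfl

theorem c39 : Block F Cfsg.Agent.TcData.Ly.K1.al 0 10240 7699 :=
  block_comb c38 b39 (Nat.zero_le _) (Nat.le_of_ble_eq_true rfl) rfl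

theorem c40 : Block F Cfsg.Agent.TcData.Ly.K1.al 0 10496 7850 :=
  block_comb c39 b40 (Nat.zero_le _) (Nat.le_of_ble_eq_true rfl) rfl

theorem c41 : Block F Cfsg.Agent.TcData.Ly.K1.al 0 10752 8012 :=
  block_comb c40 b41 (Nat.zero_le _) (Nat.le_of_ble_eq_true rfl) rfl

theorem c42 : Block F Cfsg.Agent.TcData.Ly.K1.al 0 11008 8151 :=
  block_comb c41 b42 (Nat.zero_le _) (Nat.le_of_ble_eq_true rfl) rfl

theorem c43 : Block F Cfsg.Agent.TcData.Ly.K1.al 0 11264 8291 :=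
  block_comb c42 b43 (Nat.zero_le _) (Nat.le_of_ble_eq_true rfl) rfl

theorem c44 : Block F Cfsg.Agent.TcData.Ly.K1.al 0 11520 8453 :=
  block_comb c43 b44 (Nat.zero_le _) (Nat.le_of_ble_eq_true rfl) rfl

theorem c45 : Block F Cfsg.Agent.TcData.Ly.K1.al 0 11776 8605 :=
  block_comb c44 b45 (Nat.zero_le _) (Nat.le_of_ble_eq_true rfl) rfl

theorem c46 : Block F Cfsg.Agent.TcData.Ly.K1.al 0 12032 8731 :=
  block_comb c45 b46 (Nat.zero_le _) (Nat.le_of_ble_eq_true rfl) rfl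

theorem c47 : Block F Cfsg.Agent.TcData.Ly.K1.al 0 12288 8880 :=
  block_comb c46 b47 (Nat.zero_le _) (Nat.le_of_ble_eq_true rfl) rfl

theorem c48 : Block F Cfsg.Agent.TcData.Ly.K1.al 0 12544 8991 :=
  block_comb c47 b48 (Nat.zero_le _) (Nat.le_of_ble_eq_true rfl) rfl

theorem c49 : Block F Cfsg.Agent.TcData.Ly.K1.al 0 12800 9102 :=
  block_comb c48 b49 (Nat.zero_le _) (Nat.le_of_ble_eq_true rfl) rfl

theorem c50 : Block F Cfsg.Agent.TcData.Ly.K1.al 0 13056 9248 :=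
  block_comb c49 b50 (Nat.zero_le _) (Nat.le_of_ble_eq_true rfl) rfl

theorem c51 : Block F Cfsg.Agent.TcData.Ly.K1.al 0 13312 9433 :=
  block_comb c50 b51 (Nat.zero_le _) (Nat.le_of_ble_eq_true rfl) rfl

theorem c52 : Block F Cfsg.Agent.TcData.Ly.K1.al 0 13568 9576 :=
  block_comb c51 b52 (Nat.zero_le _) (Nat.le_of_ble_eq_true rfl) rfl

theorem c53 : Block F Cfsg.Agent.TcData.Ly.K1.al 0 13824 9760 :=
  block_comb c52 b53 (Nat.zero_le _) (Nat.le_of_ble_eq_true rfl) rfl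

theorem c54 : Block F Cfsg.Agent.TcData.Ly.K1.al 0 14080 9955 :=
  block_comb c53 b54 (Nat.zero_le _) (Nat.le_of_ble_eq_true rfl) rfl

theorem c55 : Block F Cfsg.Agent.TcData.Ly.K1.al 0 14336 10131 :=
  block_comb c54 b55 (Nat.zero_le _) (Nat.le_of_ble_eq_true rfl) rfl

theorem c56 : Block F Cfsg.Agent.TcData.Ly.K1.al 0 14592 10303 :=
  block_comb c55 b56 (Nat.zero_le _) (Nat.le_of_ble_eq_true rfl) rfl

theorem c57 : Block F Cfsg.Agent.TcData.Ly.K1.al 0 14848 10449 :=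
  block_comb c56 b57 (Nat.zero_le _) (Nat.le_of_ble_eq_true rfl) rfl

theorem c58 : Block F Cfsg.Agent.TcData.Ly.K1.al 0 15104 10648 :=
  block_comb c57 b58 (Nat.zero_le _) (Nat.le_of_ble_eq_true rfl) rfl

theorem c59 : Block F Cfsg.Agent.TcData.Ly.K1.al 0 15360 10805 :=
  block_comb c58 b59 (Nat.zero_le _) (Nat.le_of_ble_eq_true rfl) rfl

theorem c60 : Block F Cfsg.Agent.TcData.Ly.K1.al 0 15616 10947 :=
  block_comb c59 b60 (Nat.zero_le _) (Nat.le_of_ble_eq_true rfl) rfl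

theorem c61 : Block F Cfsg.Agent.TcData.Ly.K1.al 0 15872 11074 :=
  block_comb c60 b61 (Nat.zero_le _) (Nat.le_of_ble_eq_true rfl) rfl

theorem c62 : Block F Cfsg.Agent.TcData.Ly.K1.al 0 16128 11197 :=
  block_comb c61 b62 (Nat.zero_le _) (Nat.le_of_ble_eq_true rfl) rfl

theorem c63 : Block F Cfsg.Agent.TcData.Ly.K1.al 0 16384 11313 :=
  block_comb c62 b63 (Nat.zero_le _) (Nat.le_of_ble_eq_true rfl) rfl

theorem c64 : Block F Cfsg.Agent.TcData.Ly.K1.al 0 16640 11497 :=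
  block_comb c63 b64 (Nat.zero_le _) (Nat.le_of_ble_eq_true rfl) rfl

theorem c65 : Block F Cfsg.Agent.TcData.Ly.K1.al 0 16896 11656 :=
  block_comb c64 b65 (Nat.zero_le _) (Nat.le_of_ble_eq_true rfl) rfl

theorem c66 : Block F Cfsg.Agent.TcData.Ly.K1.al 0 17152 11807 :=
  block_comb c65 b66 (Nat.zero_le _) (Nat.le_of_ble_eq_true rfl) rfl

theorem c67 : Block F Cfsg.Agent.TcData.Ly.K1.al 0 17408 11939 :=
  block_comb c66 b67 (Nat.zero_le _) (Nat.le_of_ble_eq_true rfl) rfl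

theorem c68 : Block F Cfsg.Agent.TcData.Ly.K1.al 0 17664 12041 :=
  block_comb c67 b68 (Nat.zero_le _) (Nat.le_of_ble_eq_true rfl) rfl

theorem c69 : Block F Cfsg.Agent.TcData.Ly.K1.al 0 17920 12193 :=
  block_comb c68 b69 (Nat.zero_le _) (Nat.le_of_ble_eq_true rfl) rfl

theorem c70 : Block F Cfsg.Agent.TcData.Ly.K1.al 0 18176 12333 :=
  block_comb c69 b70 (Nat.zero_le _) (Nat.le_of_ble_eq_true rfl) rfl

theorem c71 : Block F Cfsg.Agent.TcData.Ly.K1.al 0 18432 12503 :=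
  block_comb c70 b71 (Nat.zero_le _) (Nat.le_of_ble_eq_true rfl) rfl

theorem c72 : Block F Cfsg.Agent.TcData.Ly.K1.al 0 18688 12623 :=
  block_comb c71 b72 (Nat.zero_le _) (Nat.le_of_ble_eq_true rfl) rfl

theorem c73 : Block F Cfsg.Agent.TcData.Ly.K1.al 0 18944 12731 :=
  block_comb c72 b73 (Nat.zero_le _) (Nat.le_of_ble_eq_true rfl) rfl

theorem c74 : Block F Cfsg.Agent.TcData.Ly.K1.al 0 19200 12849 :=
  block_comb c73 b74 (Nat.zero_le _) (Nat.le_of_ble_eq_true rfl) rfl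

theorem c75 : Block F Cfsg.Agent.TcData.Ly.K1.al 0 19456 12991 :=
  block_comb c74 b75 (Nat.zero_le _) (Nat.le_of_ble_eq_true rfl) rfl

theorem c76 : Block F Cfsg.Agent.TcData.Ly.K1.al 0 19712 13096 :=
  block_comb c75 b76 (Nat.zero_le _) (Nat.le_of_ble_eq_true rfl) rfl

theorem c77 : Block F Cfsg.Agent.TcData.Ly.K1.al 0 19968 13186 :=
  block_comb c76 b77 (Nat.zero_le _) (Nat.le_of_ble_eq_true rfl) rfl

theorem c78 : Block F Cfsg.Agent.TcData.Ly.K1.al 0 20224 13356 :=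
  block_comb c77 b78 (Nat.zero_le _) (Nat.le_of_ble_eq_true rfl) rfl

theorem c79 : Block F Cfsg.Agent.TcData.Ly.K1.al 0 20480 13511 :=
  block_comb c78 b79 (Nat.zero_le _) (Nat.le_of_ble_eq_true rfl) rfl

theorem c80 : Block F Cfsg.Agent.TcData.Ly.K1.al 0 20736 13647 :=
  block_comb c79 b80 (Nat.zero_le _) (Nat.le_of_ble_eq_true rfl) rfl

theorem c81 : Block F Cfsg.Agent.TcData.Ly.K1.al 0 20992 13803 :=
  block_comb c80 b81 (Nat.zero_le _) (Nat.le_of_ble_eq_true rfl) rfl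

theorem c82 : Block F Cfsg.Agent.TcData.Ly.K1.al 0 21248 13894 :=
  block_comb c81 b82 (Nat.zero_le _) (Nat.le_of_ble_eq_true rfl) rfl

theorem c83 : Block F Cfsg.Agent.TcData.Ly.K1.al 0 21504 14072 :=
  block_comb c82 b83 (Nat.zero_le _) (Nat.le_of_ble_eq_true rfl) rfl

theorem c84 : Block F Cfsg.Agent.TcData.Ly.K1.al 0 21760 14273 :=
  block_comb c83 b84 (Nat.zero_le _) (Nat.le_of_ble_eq_true rfl) rfl

theorem c85 : Block F Cfsg.Agent.TcData.Ly.K1.al 0 22016 14493 :=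
  block_comb c84 b85 (Nat.zero_le _) (Nat.le_of_ble_eq_true rfl) rfl

theorem c86 : Block F Cfsg.Agent.TcData.Ly.K1.al 0 22272 14686 :=
  block_comb c85 b86 (Nat.zero_le _) (Nat.le_of_ble_eq_true rfl) rfl

theorem c87 : Block F Cfsg.Agent.TcData.Ly.K1.al 0 22528 14901 :=
  block_comb c86 b87 (Nat.zero_le _) (Nat.le_of_ble_eq_true rfl) rfl

theorem c88 : Block F Cfsg.Agent.TcData.Ly.K1.al 0 22784 15084 :=
  block_comb c87 b88 (Nat.zero_le _) (Nat.le_of_ble_eq_true rfl) rfl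

theorem c89 : Block F Cfsg.Agent.TcData.Ly.K1.al 0 23040 15286 :=
  block_comb c88 b89 (Nat.zero_le _) (Nat.le_of_ble_eq_true rfl) rfl

theorem c90 : Block F Cfsg.Agent.TcData.Ly.K1.al 0 23296 15443 :=
  block_comb c89 b90 (Nat.zero_le _) (Nat.le_of_ble_eq_true rfl) rfl

theorem c91 : Block F Cfsg.Agent.TcData.Ly.K1.al 0 23552 15607 :=
  block_comb c90 b91 (Nat.zero_le _) (Nat.le_of_ble_eq_true rfl) rfl

theorem c92 : Block F Cfsg.Agent.TcData.Ly.K1.al 0 23808 15766 :=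
  block_comb c91 b92 (Nat.zero_le _) (Nat.le_of_ble_eq_true rfl) rfl

theorem c93 : Block F Cfsg.Agent.TcData.Ly.K1.al 0 24064 15913 :=
  block_comb c92 b93 (Nat.zero_le _) (Nat.le_of_ble_eq_true rfl) rfl

theorem c94 : Block F Cfsg.Agent.TcData.Ly.K1.al 0 24320 16072 :=
  block_comb c93 b94 (Nat.zero_le _) (Nat.le_of_ble_eq_true rfl) rfl

theorem c95 : Block F Cfsg.Agent.TcData.Ly.K1.al 0 24576 16215 :=
  block_comb c94 b95 (Nat.zero_le _) (Nat.le_of_ble_eq_true rfl) rfl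

theorem c96 : Block F Cfsg.Agent.TcData.Ly.K1.al 0 24832 16416 :=
  block_comb c95 b96 (Nat.zero_le _) (Nat.le_of_ble_eq_true rfl) rfl

theorem c97 : Block F Cfsg.Agent.TcData.Ly.K1.al 0 25088 16555 :=
  block_comb c96 b97 (Nat.zero_le _) (Nat.le_of_ble_eq_true rfl) rfl

theorem c98 : Block F Cfsg.Agent.TcData.Ly.K1.al 0 25344 16657 :=
  block_comb c97 b98 (Nat.zero_le _) (Nat.le_of_ble_eq_true rfl) rfl

theorem c99 : Block F Cfsg.Agent.TcData.Ly.K1.al 0 25600 16793 :=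
  block_comb c98 b99 (Nat.zero_le _) (Nat.le_of_ble_eq_true rfl) rfl

theorem c100 : Block F Cfsg.Agent.TcData.Ly.K1.al 0 25856 16943 :=
  block_comb c99 b100 (Nat.zero_le _) (Nat.le_of_ble_eq_true rfl) rfl

theorem c101 : Block F Cfsg.Agent.TcData.Ly.K1.al 0 26112 17074 :=
  block_comb c100 b101 (Nat.zero_le _) (Nat.le_of_ble_eq_true rfl) rfl

theorem c102 : Block F Cfsg.Agent.TcData.Ly.K1.al 0 26368 17222 :=
  block_comb c101 b102 (Nat.zero_le _) (Nat.le_of_ble_eq_true rfl) rfl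

theorem c103 : Block F Cfsg.Agent.TcData.Ly.K1.al 0 26624 17343 :=
  block_comb c102 b103 (Nat.zero_le _) (Nat.le_of_ble_eq_true rfl) rfl

theorem c104 : Block F Cfsg.Agent.TcData.Ly.K1.al 0 26880 17477 :=
  block_comb c103 b104 (Nat.zero_le _) (Nat.le_of_ble_eq_true rfl) rfl

theorem c105 : Block F Cfsg.Agent.TcData.Ly.K1.al 0 27136 17602 :=
  block_comb c104 b105 (Nat.zero_le _) (Nat.le_of_ble_eq_true rfl) rfl

theorem c106 : Block F Cfsg.Agent.TcData.Ly.K1.al 0 27392 17800 :=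
  block_comb c105 b106 (Nat.zero_le _) (Nat.le_of_ble_eq_true rfl) rfl

theorem c107 : Block F Cfsg.Agent.TcData.Ly.K1.al 0 27648 18003 :=
  block_comb c106 b107 (Nat.zero_le _) (Nat.le_of_ble_eq_true rfl) rfl

theorem c108 : Block F Cfsg.Agent.TcData.Ly.K1.al 0 27904 18228 :=
  block_comb c107 b108 (Nat.zero_le _) (Nat.le_of_ble_eq_true rfl) rfl

theorem c109 : Block F Cfsg.Agent.TcData.Ly.K1.al 0 28160 18457 :=
  block_comb c108 b109 (Nat.zero_le _) (Nat.le_of_ble_eq_true rfl) rfl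

theorem c110 : Block F Cfsg.Agent.TcData.Ly.K1.al 0 28416 18643 :=
  block_comb c109 b110 (Nat.zero_le _) (Nat.le_of_ble_eq_true rfl) rfl

theorem c111 : Block F Cfsg.Agent.TcData.Ly.K1.al 0 28672 18843 :=
  block_comb c110 b111 (Nat.zero_le _) (Nat.le_of_ble_eq_true rfl) rfl

theorem c112 : Block F Cfsg.Agent.TcData.Ly.K1.al 0 28928 19015 :=
  block_comb c111 b112 (Nat.zero_le _) (Nat.le_of_ble_eq_true rfl) rfl

theorem c113 : Block F Cfsg.Agent.TcData.Ly.K1.al 0 29184 19141 :=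
  block_comb c112 b113 (Nat.zero_le _) (Nat.le_of_ble_eq_true rfl) rfl

theorem c114 : Block F Cfsg.Agent.TcData.Ly.K1.al 0 29440 19266 :=
  block_comb c113 b114 (Nat.zero_le _) (Nat.le_of_ble_eq_true rfl) rfl

theorem c115 : Block F Cfsg.Agent.TcData.Ly.K1.al 0 29696 19399 :=
  block_comb c114 b115 (Nat.zero_le _) (Nat.le_of_ble_eq_true rfl) rfl

theorem c116 : Block F Cfsg.Agent.TcData.Ly.K1.al 0 29952 19530 :=
  block_comb c115 b116 (Nat.zero_le _) (Nat.le_of_ble_eq_true rfl) rfl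

theorem hF : ∀ u, u ≤ 29951 → F u = true := fun u hu => c116.1 u (Nat.zero_le _) (by omega)

end Cfsg.Agent.TcData.Ly.Cov.L3
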